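import Cfsg.Agent.Lib.Helper12.TC.Fi23x31671.Tab

/-! relator checks for Fi23x31671, part 5 (generated, helper12) -/

set_option autoImplicit false
set_option maxRecDepth 100000

namespace Cfsg.Agent.Lib.Helper12.TC.Fi23x31671

open Cfsg.Agent.Lib.Helper12.TC

theorem horbi1_0 : Fn.orbInvOneK TT [0] 28161 31671 = true := by decide +kernel

theorem horbi1_3 : Fn.orbInvOneK TT [3] 28161 31671 = true := by decide +kernel

theorem hperm0 : Fn.permOneK TT 0 cN = true := by decide +kernel

theorem hperm7 : Fn.permOneK TT 7 cN = true := by decide +kernel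

theorem hm18 : Fn.marksK TT cN [([3, 6], 2)] = true := by decide +kernel

theorem hm30 : Fn.marksK TT cN [([2, 8], 2)] = true := by decide +kernel

theorem hm42 : Fn.marksK TT cN [([6, 9], 2)] = true := by decide +kernel

end Cfsg.Agent.Lib.Helper12.TC.Fi23x31671
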