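import Cfsg.Agent.Lib.Helper12.TC.Fi23x31671.Tab

/-! relator checks for Fi23x31671, part 6 (generated, helper12) -/

set_option autoImplicit false
set_option maxRecDepth 100000

namespace Cfsg.Agent.Lib.Helper12.TC.Fi23x31671

open Cfsg.Agent.Lib.Helper12.TC

theorem horbi1_1 : Fn.orbInvOneK TT [1] 28161 31671 = true := by decide +kernel

theorem horbi1_4 : Fn.orbInvOneK TT [4] 28161 31671 = true := by decide +kernel

theorem hperm1 : Fn.permOneK TT 1 cN = true := by decide +kernel

theorem hperm8 : Fn.permOneK TT 8 cN = true := by decide +kernel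

theorem hm19 : Fn.marksK TT cN [([4, 6], 2)] = true := by decide +kernel

theorem hm31 : Fn.marksK TT cN [([3, 8], 3)] = true := by decide +kernel

theorem hm43 : Fn.marksK TT cN [([7, 9], 2)] = true := by decide +kernel

end Cfsg.Agent.Lib.Helper12.TC.Fi23x31671
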