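import Cfsg.Agent.Lib.Helper12.TC.Fi23x31671.Tab

/-! relator checks for Fi23x31671, part 7 (generated, helper12) -/

set_option autoImplicit false
set_option maxRecDepth 100000

namespace Cfsg.Agent.Lib.Helper12.TC.Fi23x31671

open Cfsg.Agent.Lib.Helper12.TC

theorem horbi1_2 : Fn.orbInvOneK TT [2] 28161 31671 = true := by decide +kernel

theorem horbi1_5 : Fn.orbInvOneK TT [5] 28161 31671 = true := by decide +kernel

theorem hperm2 : Fn.permOneK TT 2 cN = true := by decide +kernel

theorem hperm9 : Fn.permOneK TT 9 cN = true := by decide +kernel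

theorem hm20 : Fn.marksK TT cN [([5, 6], 3)] = true := by decide +kernel

theorem hm32 : Fn.marksK TT cN [([4, 8], 2)] = true := by decide +kernel

theorem hm44 : Fn.marksK TT cN [([8, 9], 3)] = true := by decide +kernel

end Cfsg.Agent.Lib.Helper12.TC.Fi23x31671
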